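import Groth.Agent.DescSS.HomFil
import Mathlib.CategoryTheory.Abelian.Injective.Ext
import Mathlib.CategoryTheory.Abelian.Injective.Resolution
import Mathlib.Algebra.Homology.HomotopyCategory.SingleFunctors
import Mathlib.Algebra.Homology.DerivedCategory.KInjective

/-!
# The spectral sequence of a resolution in the first variable of `Ext`
-/

set_option autoImplicit false
set_option backward.isDefEq.respectTransparency false
set_option backward.isDefEq.respectTransparency.types false
set_option linter.style.haveILetI false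

universe v u

open CategoryTheory CategoryTheory.Limits CategoryTheory.Abelian ComposableArrows
open CochainComplex CochainComplex.HomComplex

noncomputable section

namespace Groth.Agent.DescSS.ExtSS

variable {A : Type u} [Category.{v} A] [Abelian A]

/-- Cochains from single complexes in different degrees. -/
def shiftSingle (X : A) (I : CochainComplex A ℤ) {j n q : ℤ} (h : j + n = q) :
    Cochain ((singleFunctor A j).obj X) I n ≃+ Cochain ((singleFunctor A 0).obj X) I q :=
  (Cochain.fromSingleEquiv h).trans (Cochain.fromSingleEquiv (zero_add q)).symm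

lemma shiftSingle_δ (X : A) (I : CochainComplex A ℤ) {j n q : ℤ} (h : j + n = q) (n' q' : ℤ) (h' : j + n' = q')
    (z : Cochain ((singleFunctor A j).obj X) I n) :
    δ q q' (shiftSingle X I h z) = shiftSingle X I h' (δ n n' z) := by
  obtain ⟨f, rfl⟩ := Cochain.fromSingleMk_surjective z q h
  rw [Cochain.δ_fromSingleMk f h n' q' h']
  have e : ∀ {n q : ℤ} (h : j + n = q) (g : X ⟶ I.X q),
      shiftSingle X I h (Cochain.fromSingleMk g h) = Cochain.fromSingleMk g (zero_add q) := fun h g => by
    show (Cochain.fromSingleEquiv (zero_add _)).symm (Cochain.fromSingleEquiv h (Cochain.fromSingleMk g h)) = _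
    rw [Cochain.fromSingleEquiv_fromSingleMk]
    rfl
  rw [e h f, e h' (f ≫ I.d q q'), Cochain.δ_fromSingleMk f (zero_add q) q' q' (zero_add q')]

/-- Cohomology classes from single complexes in different degrees. -/
def shiftSingleHomology (X : A) (I : CochainComplex A ℤ) {j n q : ℤ} (h : j + n = q) :
    (HomComplex ((singleFunctor A j).obj X) I).homology n ≅ (HomComplex ((singleFunctor A 0).obj X) I).homology q :=
  (ShortComplex.homologyMapIso ((HomComplex ((singleFunctor A j).obj X) I).isoSc' (n - 1) n (n + 1)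
      (by simp) (by simp))) ≪≫
    ShortComplex.homologyMapIso (ShortComplex.isoMk
      (AddEquiv.toAddCommGrpIso (X := AddCommGrpCat.of _) (Y := AddCommGrpCat.of _)
        (shiftSingle X I (show j + (n - 1) = q - 1 by lia)))
      (AddEquiv.toAddCommGrpIso (X := AddCommGrpCat.of _) (Y := AddCommGrpCat.of _) (shiftSingle X I h))
      (AddEquiv.toAddCommGrpIso (X := AddCommGrpCat.of _) (Y := AddCommGrpCat.of _)
        (shiftSingle X I (show j + (n + 1) = q + 1 by lia)))
      (AddCommGrpCat.hom_ext (AddMonoidHom.ext fun z => shiftSingle_δ X I _ _ _ _ z))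
      (AddCommGrpCat.hom_ext (AddMonoidHom.ext fun z => shiftSingle_δ X I _ _ _ _ z))) ≪≫
    (ShortComplex.homologyMapIso ((HomComplex ((singleFunctor A 0).obj X) I).isoSc' (q - 1) q (q + 1)
      (by simp) (by simp))).symm

lemma subsingleton_class (X : A) (I : CochainComplex A ℤ) [CochainComplex.IsStrictlyGE I 0] (q : ℤ) (hq : q < 0) :
    Subsingleton (CohomologyClass ((singleFunctor A 0).obj X) I q) := by
  have hz : ∀ z : Cochain ((singleFunctor A 0).obj X) I q, z = 0 := fun z =>
    (Cochain.fromSingleEquiv (zero_add q)).injective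
      ((CochainComplex.isZero_of_isStrictlyGE I 0 q hq).eq_of_tgt _ _)
  refine ⟨fun x y => ?_⟩
  obtain ⟨x, rfl⟩ := x.mk_surjective
  obtain ⟨y, rfl⟩ := y.mk_surjective
  rw [show x = y from Cocycle.ext ((hz _).trans (hz _).symm)]

/-- Cohomology classes out of quasi-isomorphic complexes. -/
def classEquiv [HasDerivedCategory A] {P Q : CochainComplex A ℤ} (π : P ⟶ Q) [QuasiIso π]
    (I : CochainComplex A ℤ) [CochainComplex.IsKInjective I] (n : ℤ) :
    CohomologyClass Q I n ≃+ CohomologyClass P I n :=
  (CohomologyClass.homAddEquiv).trans ((AddEquiv.ofBijective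
    (Preadditive.leftComp ((HomotopyCategory.quotient A (ComplexShape.up ℤ)).obj (I⟦n⟧))
      ((HomotopyCategory.quotient A (ComplexShape.up ℤ)).map π)) (by
    haveI : IsIso ((DerivedCategory.Qh (C := A)).map ((HomotopyCategory.quotient A (ComplexShape.up ℤ)).map π)) :=
      (NatIso.isIso_map_iff (DerivedCategory.quotientCompQhIso A) π).2 inferInstance
    have hb : ∀ K, Function.Bijective ((DerivedCategory.Qh (C := A)).map : ((HomotopyCategory.quotient A (ComplexShape.up ℤ)).obj K ⟶
        (HomotopyCategory.quotient A (ComplexShape.up ℤ)).obj (I⟦n⟧)) → _) := fun K =>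
      CochainComplex.IsKInjective.Qh_map_bijective _ (I⟦n⟧)
    refine (Function.Bijective.of_comp_iff' (hb P) _).1 ?_
    have hc : (((DerivedCategory.Qh (C := A)).map : ((HomotopyCategory.quotient A (ComplexShape.up ℤ)).obj P ⟶
        (HomotopyCategory.quotient A (ComplexShape.up ℤ)).obj (I⟦n⟧)) → _) ∘
        Preadditive.leftComp ((HomotopyCategory.quotient A (ComplexShape.up ℤ)).obj (I⟦n⟧))
          ((HomotopyCategory.quotient A (ComplexShape.up ℤ)).map π)) =
        (asIso ((DerivedCategory.Qh (C := A)).map ((HomotopyCategory.quotient A (ComplexShape.up ℤ)).map π))).symm.homCongr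
          (Iso.refl _) ∘ (DerivedCategory.Qh (C := A)).map := by
      funext g
      simp [Iso.homCongr]
      exact (DerivedCategory.Qh (C := A)).map_comp ((HomotopyCategory.quotient A (ComplexShape.up ℤ)).map π) g
    rw [hc]
    exact (Equiv.bijective _).comp (hb Q))).trans CohomologyClass.homAddEquiv.symm)

variable [HasExt.{v} A] [EnoughInjectives A]

set_option maxHeartbeats 1000000 in
/-- A resolution in the first variable gives a spectral sequence of `Ext` groups. -/
theorem exists_spectralSequence (P : CochainComplex A ℤ) [CochainComplex.IsStrictlyLE P 0] {Z : A} (M : A)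
    (π : P ⟶ (singleFunctor A 0).obj Z) [QuasiIso π]
    (H : ℤ → AddCommGrpCat.{v}) (hH : ∀ n : ℕ, Nonempty (Ext.{v} Z M n ≃+ H n))
    (hH' : ∀ n : ℤ, n < 0 → IsZero (H n))
    (G : ℤ → ℤ → AddCommGrpCat.{v}) (hG : ∀ p q : ℕ, Nonempty (Ext.{v} (P.X (-(p : ℤ))) M q ≃+ G p q))
    (hG' : ∀ p q : ℤ, p < 0 ∨ q < 0 → IsZero (G p q)) :
    ∃ (E : CohomologicalSpectralSequence AddCommGrpCat.{v} 1) (a : SpSeq.Abutment E H),
      (∀ n, a.IsFinite n) ∧ SpSeq.IsBounded E ∧
      ∀ p q : ℤ, Nonempty ((E.page 1 le_rfl).X (p, q) ≅ G p q) := by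
  letI := HasDerivedCategory.standard A
  let R := InjectiveResolution.of M
  let X := HomFil.spObj P R.cochainComplex
  have hHn : ∀ n : ℤ, Nonempty ((X.H n).obj (mk₁ (homOfLE (bot_le : (⊥ : EInt) ≤ ⊤))) ≅ H n) := by
    intro n
    let e := (HomFil.totalIso P R.cochainComplex n).addCommGroupIsoToAddEquiv.trans
      ((HomComplex.homologyAddEquiv P R.cochainComplex n).trans (classEquiv π R.cochainComplex n).symm)
    by_cases hn : n < 0
    · haveI := subsingleton_class Z R.cochainComplex n hn
      haveI : Subsingleton ((X.H n).obj (mk₁ (homOfLE (bot_le : (⊥ : EInt) ≤ ⊤)))) := e.toEquiv.subsingleton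
      exact ⟨(AddCommGrpCat.isZero_of_subsingleton _).iso (hH' n hn)⟩
    · obtain ⟨m, rfl⟩ := Int.eq_ofNat_of_zero_le (not_lt.1 hn)
      obtain ⟨e'⟩ := hH m
      exact ⟨(e.trans (R.extAddEquivCohomologyClass.symm.trans e')).toAddCommGrpIso⟩
  refine ⟨ss X, abutment X H (fun n => (hHn n).some), abutment_isFinite X H _, isBounded X, fun p q => ?_⟩
  by_cases hpq : p < 0 ∨ q < 0
  · exact ⟨(isZero_page X 1 le_rfl (p, q) hpq).iso (hG' p q hpq)⟩
  obtain ⟨hp, hq⟩ := not_or.1 hpq
  obtain ⟨p, rfl⟩ := Int.eq_ofNat_of_zero_le (not_lt.1 hp)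
  obtain ⟨q, rfl⟩ := Int.eq_ofNat_of_zero_le (not_lt.1 hq)
  obtain ⟨e'⟩ := hG p q
  exact ⟨pageOneIso X (p : ℤ) (q : ℤ) ≪≫ HomFil.pieceIso P R.cochainComplex _ (-(p : ℤ)) _ ≪≫
    shiftSingleHomology _ _ (show -(p : ℤ) + ((p : ℤ) + q) = q by lia) ≪≫
    ((HomComplex.homologyAddEquiv _ _ _).trans (R.extAddEquivCohomologyClass.symm.trans e')).toAddCommGrpIso⟩

end Groth.Agent.DescSS.ExtSS
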