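import Groth.Agent.FibBi.FamBC
import Groth.Agent.FibSiteLib.TopLocal
import Groth.Prelude.Def_CohTop
import Mathlib.CategoryTheory.Sites.ConstantSheaf
import Mathlib.Algebra.Category.Grp.Adjunctions

/-!
# The levels of the total site of a family of spaces
-/

set_option autoImplicit false
set_option backward.isDefEq.respectTransparency false
set_option backward.isDefEq.respectTransparency.types false
set_option linter.style.haveILetI false

universe u

open CategoryTheory CategoryTheory.Limits Opposite TopologicalSpace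
open Pseudofunctor.CoGrothendieck
open Groth.Agent.FibSiteLib Groth.Agent.FibSiteLib.TopFam Groth.Agent.FibBi

noncomputable section

namespace Groth.Agent.DescSS.FamLevel

variable {𝒰 : Type} [SmallCategory 𝒰] (W : 𝒰 ⥤ TopCat.{u}) (m : 𝒰)

open scoped Classical in
/-- The inclusion of a level is componentwise flat. -/
theorem multiFlat_ι : LanMono.MultiFlat (ι (topFam W) m) := fun d => by
  let J := CostructuredArrow (ι (topFam W) m).op d
  refine ⟨ULift.{u} (d.unop.base ⟶ m), fun j => ⟨j.hom.unop.base⟩, ?_, ?_⟩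
  · intro j k f
    refine ULift.ext _ _ ?_
    show j.hom.unop.base = k.hom.unop.base
    have h : (k.hom.unop ≫ (ι (topFam W) m).map f.left.unop).base = j.hom.unop.base :=
      congrArg (fun q => q.unop.base) (CostructuredArrow.w f)
    rw [Pseudofunctor.CoGrothendieck.categoryStruct_comp_base] at h
    exact (h.symm.trans (Category.comp_id _))
  · rintro ⟨i, j₀, rfl⟩
    let e : d.unop.base ⟶ m := j₀.hom.unop.base
    let pre : ∀ V : Opens (W.obj m), fib W d.unop ≤ (Opens.map (W.map e)).obj V → J := fun V hV =>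
      CostructuredArrow.mk (Y := op (show (topFam W).obj ⟨op m⟩ from V))
        (show (ι (topFam W) m).op.obj (op V) ⟶ d from
          (TopFam.mk W (X := d.unop) (W := (ι (topFam W) m).obj V) e hV).op)
    have hle : ∀ (j : J), j.hom.unop.base = e →
        fib W d.unop ≤ (Opens.map (W.map e)).obj (show Opens (W.obj m) from j.left.unop) := fun j hj => by
      rw [← hj]
      exact le_of_hom W j.hom.unop
    haveI : Nonempty (LanMono.Comp (fun j : J => (⟨j.hom.unop.base⟩ : ULift.{u} (d.unop.base ⟶ m))) ⟨⟨e⟩, j₀, rfl⟩) :=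
      ⟨⟨j₀, rfl⟩⟩
    refine { cocone_objs := fun a b => ?_, cocone_maps := fun a b p q => ?_ }
    · have ha : a.obj.hom.unop.base = e := congrArg ULift.down a.property
      have hb : b.obj.hom.unop.base = e := congrArg ULift.down b.property
      let A : Opens (W.obj m) := a.obj.left.unop
      let B : Opens (W.obj m) := b.obj.left.unop
      refine ⟨⟨pre (A ⊓ B) (fun x hx => ⟨hle a.obj ha hx, hle b.obj hb hx⟩), rfl⟩,
        ObjectProperty.homMk (CostructuredArrow.homMk (homOfLE (X := Opens (W.obj m)) (inf_le_left : A ⊓ B ≤ A)).op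
          (Quiver.Hom.unop_inj (TopFam.hom_ext W _ _ ?_))),
        ObjectProperty.homMk (CostructuredArrow.homMk (homOfLE (X := Opens (W.obj m)) (inf_le_right : A ⊓ B ≤ B)).op
          (Quiver.Hom.unop_inj (TopFam.hom_ext W _ _ ?_))), trivial⟩
      · exact (Category.comp_id e).trans ha.symm
      · exact (Category.comp_id e).trans hb.symm
    · refine ⟨b, 𝟙 b, ?_⟩
      refine ObjectProperty.hom_ext _ (CostructuredArrow.hom_ext _ _ (Quiver.Hom.unop_inj ?_))
      exact Subsingleton.elim (α := (show Opens (W.obj m) from b.obj.left.unop) ⟶ (show Opens (W.obj m) from a.obj.left.unop)) _ _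

/-- The topology of the total site. -/
abbrev J := FibSite.totalTopology (topFam W) (top W)

instance : (ι (topFam W) m).IsContinuous (top W m) (J W) := isContinuous_ι (TopFam.isPreFibSite W) m
instance : (ι (topFam W) m).IsCocontinuous (top W m) (J W) := isCocontinuous_ι (TopFam.isPreFibSite W) m

/-- Restriction to a level. -/
abbrev r : Sheaf (J W) AddCommGrpCat.{u} ⥤ CohTop.Ab (W.obj m) :=
  (ι (topFam W) m).sheafPushforwardContinuous AddCommGrpCat.{u} (top W m) (J W)

/-- Extension from a level. -/
abbrev L : CohTop.Ab (W.obj m) ⥤ Sheaf (J W) AddCommGrpCat.{u} :=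
  (ι (topFam W) m).sheafPullback AddCommGrpCat.{u} (top W m) (J W)

/-- The adjunction. -/
abbrev adj : L W m ⊣ r W m :=
  (ι (topFam W) m).sheafAdjunctionContinuous AddCommGrpCat.{u} (top W m) (J W)

lemma lex_L : PreservesFiniteLimits (L W m) := LanMono.lex_sheafPullback (multiFlat_ι W m)

/-- The whole level as an object. -/
abbrev topOb : ∫ᶜ (topFam W) := (ι (topFam W) m).obj (⊤ : Opens (W.obj m))

/-- The free sheaf on a level. -/
abbrev free : Sheaf (J W) AddCommGrpCat.{u} :=
  (presheafToSheaf (J W) AddCommGrpCat.{u}).obj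
    (((Functor.whiskeringRight _ (Type u) AddCommGrpCat.{u}).obj AddCommGrpCat.free.{u}).obj
      (CategoryTheory.yoneda.obj (topOb W m)))

/-- The extended constant sheaf. -/
abbrev LZ : Sheaf (J W) AddCommGrpCat.{u} :=
  (L W m).obj ((constantSheaf (top W m) AddCommGrpCat.{u}).obj (AddCommGrpCat.of (ULift.{u} ℤ)))

/-- Morphisms out of the free sheaf on a level. -/
def freeEquiv (G : Sheaf (J W) AddCommGrpCat.{u}) : (free W m ⟶ G) ≃ G.obj.obj (op (topOb W m)) :=
  ((sheafificationAdjunction (J W) AddCommGrpCat.{u}).homEquiv _ _).trans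
    (((AddCommGrpCat.adj.{u}.whiskerRight (∫ᶜ (topFam W))ᵒᵖ).homEquiv _ _).trans CategoryTheory.yonedaEquiv)

lemma freeEquiv_comp {G G' : Sheaf (J W) AddCommGrpCat.{u}} (f : free W m ⟶ G) (g : G ⟶ G') :
    freeEquiv W m G' (f ≫ g) = g.hom.app (op (topOb W m)) (freeEquiv W m G f) := by
  simp only [freeEquiv, Equiv.trans_apply, Adjunction.homEquiv_naturality_right, yonedaEquiv_comp]
  rfl

/-- Morphisms out of the extended constant sheaf. -/
def LZEquiv (G : Sheaf (J W) AddCommGrpCat.{u}) : (LZ W m ⟶ G) ≃ G.obj.obj (op (topOb W m)) :=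
  ((adj W m).homEquiv _ _).trans
    (((constantSheafAdj (top W m) AddCommGrpCat.{u} (Limits.isTerminalTop (α := Opens (W.obj m)))).homEquiv _ _).trans
      (AddCommGrpCat.uliftZMultiplesAddEquiv _).toEquiv)

lemma LZEquiv_comp {G G' : Sheaf (J W) AddCommGrpCat.{u}} (f : LZ W m ⟶ G) (g : G ⟶ G') :
    LZEquiv W m G' (f ≫ g) = g.hom.app (op (topOb W m)) (LZEquiv W m G f) := by
  simp only [LZEquiv, Equiv.trans_apply, Adjunction.homEquiv_naturality_right]
  rfl

/-- The free sheaf on a level is the extended constant sheaf. -/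
def freeIso : free W m ≅ LZ W m where
  hom := (freeEquiv W m _).symm (LZEquiv W m _ (𝟙 _))
  inv := (LZEquiv W m _).symm (freeEquiv W m _ (𝟙 _))
  hom_inv_id := (freeEquiv W m _).injective (by
    rw [freeEquiv_comp, Equiv.apply_symm_apply, ← LZEquiv_comp, Category.id_comp, Equiv.apply_symm_apply])
  inv_hom_id := (LZEquiv W m _).injective (by
    rw [LZEquiv_comp, Equiv.apply_symm_apply, ← freeEquiv_comp, Category.id_comp, Equiv.apply_symm_apply])

end Groth.Agent.DescSS.FamLevel
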