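import Groth.Agent.FibSiteLib.TopFam
import Mathlib.AlgebraicTopology.ExtraDegeneracy
import Mathlib.AlgebraicTopology.AlternatingFaceMapComplex
import Mathlib.Algebra.Homology.Functor
import Mathlib.Algebra.Category.Grp.Adjunctions
import Mathlib.Algebra.Category.Grp.Abelian
import Mathlib.CategoryTheory.Sites.Abelian
import Mathlib.Algebra.Homology.Embedding.CochainComplex
import Mathlib.CategoryTheory.Abelian.Projective.Extend
import Mathlib.Algebra.Homology.HomologicalComplexAbelian

/-!
# The free resolution of the constant sheaf on a simplicial family of spaces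
-/

set_option autoImplicit false
set_option backward.isDefEq.respectTransparency false
set_option backward.isDefEq.respectTransparency.types false

universe u

open CategoryTheory CategoryTheory.Limits Opposite TopologicalSpace Simplicial
open Pseudofunctor.CoGrothendieck
open Groth.Agent.FibSiteLib Groth.Agent.FibSiteLib.TopFam

noncomputable section

namespace Groth.Agent.DescSS.FamRes

variable (N : SimplexCategoryᵒᵖ ⥤ TopCat.{u})

/-- The whole terms as objects of the total category. -/
def topObj : SimplexCategoryᵒᵖ ⥤ ∫ᶜ (topFam N) where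
  obj k := ⟨k, (⊤ : Opens (N.obj k))⟩
  map {k k'} g := TopFam.mk N (X := ⟨k, (⊤ : Opens (N.obj k))⟩) (W := ⟨k', (⊤ : Opens (N.obj k'))⟩) g
    (fun _ _ => trivial)
  map_id k := TopFam.hom_ext N _ _ rfl
  map_comp f g := TopFam.hom_ext N _ _ rfl

/-- Maps into a whole term are maps of indices. -/
def homEquiv (Z : ∫ᶜ (topFam N)) (k : SimplexCategoryᵒᵖ) :
    (Z ⟶ (topObj N).obj k) ≃ (k.unop ⟶ Z.base.unop) where
  toFun f := f.base.unop
  invFun g := TopFam.mk N (X := Z) (W := (topObj N).obj k) g.op (fun _ _ => trivial)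
  left_inv f := TopFam.hom_ext N _ _ rfl
  right_inv g := rfl

/-- Free abelian presheaves on a presheaf of sets. -/
abbrev freePre : ((∫ᶜ (topFam N))ᵒᵖ ⥤ Type u) ⥤ ((∫ᶜ (topFam N))ᵒᵖ ⥤ AddCommGrpCat.{u}) :=
  (Functor.whiskeringRight _ (Type u) AddCommGrpCat.{u}).obj AddCommGrpCat.free.{u}

/-- The augmented free simplicial presheaf. -/
def preAug : SimplicialObject.Augmented ((∫ᶜ (topFam N))ᵒᵖ ⥤ AddCommGrpCat.{u}) where
  left := topObj N ⋙ CategoryTheory.yoneda ⋙ freePre N
  right := (Functor.const _).obj (AddCommGrpCat.free.{u}.obj PUnit.{u + 1})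
  hom :=
    { app := fun k =>
        { app := fun Z => AddCommGrpCat.free.{u}.map (↾fun _ => PUnit.unit)
          naturality := fun Z Z' g => by
            show _ ≫ AddCommGrpCat.free.{u}.map _ = AddCommGrpCat.free.{u}.map _ ≫ 𝟙 _
            rw [Category.comp_id]
            exact (AddCommGrpCat.free.{u}.map_comp _ _).symm }
      naturality := fun k k' g => by
        ext Z : 2
        show _ ≫ AddCommGrpCat.free.{u}.map _ = AddCommGrpCat.free.{u}.map _ ≫ 𝟙 _
        rw [Category.comp_id]
        exact (AddCommGrpCat.free.{u}.map_comp _ _).symm }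

/-- The sections of the augmented presheaf are free on a standard simplex. -/
def evalIso (Z : (∫ᶜ (topFam N))ᵒᵖ) :
    ((SimplicialObject.Augmented.whiskering _ _).obj AddCommGrpCat.free.{u}).obj
        (SSet.Augmented.stdSimplex.{u}.obj Z.unop.base.unop) ≅
      ((SimplicialObject.Augmented.whiskering _ _).obj ((evaluation _ AddCommGrpCat.{u}).obj Z)).obj (preAug N) :=
  Comma.isoMk
    (NatIso.ofComponents (fun k => AddCommGrpCat.free.{u}.mapIso
      (SSet.stdSimplex.objEquiv.trans (homEquiv N Z.unop k).symm).toIso)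
      (fun {k k'} g => by
        refine ((AddCommGrpCat.free.{u}.map_comp _ _).symm.trans (Eq.trans ?_ (AddCommGrpCat.free.{u}.map_comp _ _)))
        refine congrArg AddCommGrpCat.free.{u}.map ?_
        ext x
        exact TopFam.hom_ext N _ _ rfl))
    (AddCommGrpCat.free.{u}.mapIso
      ({ hom := ↾fun _ => PUnit.unit
         inv := terminal.from PUnit.{u + 1}
         hom_inv_id := terminal.hom_ext _ _
         inv_hom_id := by ext } : (⊤_ Type u) ≅ PUnit.{u + 1}))
    (by
      refine NatTrans.ext (funext fun k => ?_)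
      refine ((AddCommGrpCat.free.{u}.map_comp _ _).symm.trans (Eq.trans ?_ (AddCommGrpCat.free.{u}.map_comp _ _)))
      refine congrArg AddCommGrpCat.free.{u}.map ?_
      ext)

/-- The extra degeneracy of the sections. -/
def extraDegeneracy (Z : (∫ᶜ (topFam N))ᵒᵖ) :
    SimplicialObject.Augmented.ExtraDegeneracy
      (((SimplicialObject.Augmented.whiskering _ _).obj ((evaluation _ AddCommGrpCat.{u}).obj Z)).obj (preAug N)) :=
  SimplicialObject.Augmented.ExtraDegeneracy.ofIso (evalIso N Z)
    ((SSet.Augmented.StandardSimplex.extraDegeneracy Z.unop.base.unop).map AddCommGrpCat.free.{u})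

/-- The complex of free presheaves. -/
abbrev preCx : ChainComplex ((∫ᶜ (topFam N))ᵒᵖ ⥤ AddCommGrpCat.{u}) ℕ :=
  (AlgebraicTopology.alternatingFaceMapComplex _).obj (preAug N).left

/-- The augmentation. -/
abbrev preπ : preCx N ⟶ (ChainComplex.single₀ _).obj (preAug N).right :=
  AlgebraicTopology.AlternatingFaceMapComplex.ε.app (preAug N)

instance quasiIso_preπ : QuasiIso (preπ N) := by
  rw [HomologicalComplex.quasiIso_iff_evaluation]
  intro Z
  let ev := (evaluation _ AddCommGrpCat.{u}).obj Z
  let X := ((SimplicialObject.Augmented.whiskering _ _).obj ev).obj (preAug N)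
  haveI : QuasiIso (AlgebraicTopology.AlternatingFaceMapComplex.ε.app X) :=
    inferInstanceAs (QuasiIso (extraDegeneracy N Z).homotopyEquiv.hom)
  refine (quasiIso_iff_of_arrow_mk_iso (AlgebraicTopology.AlternatingFaceMapComplex.ε.app X) _
    (Arrow.isoMk (eqToIso (Functor.congr_obj (AlgebraicTopology.map_alternatingFaceMapComplex ev) (preAug N).left).symm)
      ((HomologicalComplex.singleMapHomologicalComplex ev (ComplexShape.down ℕ) 0).app (preAug N).right).symm
      ?_)).1 inferInstance
  refine HomologicalComplex.hom_ext _ _ fun n => ?_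
  cases n with
  | zero =>
    simp only [Arrow.mk_hom, HomologicalComplex.comp_f, eqToIso.hom, HomologicalComplex.eqToHom_f, Iso.symm_hom,
      Iso.app_inv, HomologicalComplex.singleMapHomologicalComplex_inv_app_self]
    dsimp [X, ev]
    simp
    rfl
  | succ n =>
    exact (Functor.map_isZero ev ((HomologicalComplex.isZero_single_obj_X (ComplexShape.down ℕ) 0 _ (n + 1)
      (Nat.succ_ne_zero n)))).eq_of_tgt _ _

/-- The total topology. -/
abbrev J := FibSite.totalTopology (topFam N) (top N)

/-- The constant sheaf. -/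
abbrev Zc : Sheaf (J N) AddCommGrpCat.{u} :=
  (presheafToSheaf (J N) AddCommGrpCat.{u}).obj (preAug N).right

/-- The free resolution in sheaves. -/
abbrev shCx : ChainComplex (Sheaf (J N) AddCommGrpCat.{u}) ℕ :=
  ((presheafToSheaf (J N) AddCommGrpCat.{u}).mapHomologicalComplex _).obj (preCx N)

/-- The augmentation in sheaves. -/
def shπ : shCx N ⟶ (ChainComplex.single₀ _).obj (Zc N) :=
  ((presheafToSheaf (J N) AddCommGrpCat.{u}).mapHomologicalComplex _).map (preπ N) ≫
    ((HomologicalComplex.singleMapHomologicalComplex (presheafToSheaf (J N) AddCommGrpCat.{u})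
      (ComplexShape.down ℕ) 0).app _).hom

instance quasiIso_shπ : QuasiIso (shπ N) := by
  dsimp only [shπ]
  infer_instance

/-- The resolution as a cochain complex. -/
abbrev P : CochainComplex (Sheaf (J N) AddCommGrpCat.{u}) ℤ :=
  (shCx N).extend ComplexShape.embeddingDownNat

/-- The augmentation of the resolution. -/
def π : P N ⟶ (CochainComplex.singleFunctor _ 0).obj (Zc N) :=
  (ComplexShape.embeddingDownNat.extendFunctor _).map (shπ N) ≫
    (HomologicalComplex.extendSingleIso _ _ _ _ (by simp)).hom

instance quasiIso_π : QuasiIso (π N) := by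
  haveI : QuasiIso ((ComplexShape.embeddingDownNat.extendFunctor _).map (shπ N)) :=
    (HomologicalComplex.quasiIso_extendMap_iff (shπ N) ComplexShape.embeddingDownNat).2 inferInstance
  dsimp only [π]
  infer_instance

/-- The terms of the resolution. -/
def XIso (p : ℕ) : (P N).X (-(p : ℤ)) ≅
    (presheafToSheaf (J N) AddCommGrpCat.{u}).obj
      ((freePre N).obj (CategoryTheory.yoneda.obj ((topObj N).obj (op ⦋p⦌)))) :=
  HomologicalComplex.extendXIso _ _ (show ComplexShape.embeddingDownNat.f p = -(p : ℤ) from rfl)

end Groth.Agent.DescSS.FamRes
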