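import Groth.Agent.DescSS.CoreE1
import Groth.Agent.SpObjSS.Homological
import Mathlib.Algebra.Homology.HomotopyCategory.SpectralObject
import Mathlib.Algebra.Homology.HomotopyCategory.ShortExact
import Mathlib.Algebra.Homology.HomotopyCategory.HomComplexSingle
import Mathlib.Algebra.Category.Grp.Abelian
import Mathlib.Algebra.Category.Grp.EpiMono
import Mathlib.Algebra.Category.Grp.Zero
import Mathlib.Algebra.Homology.HomologicalComplexAbelian
import Mathlib.Algebra.Homology.ShortComplex.Ab
import Mathlib.Algebra.Homology.Embedding.CochainComplex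

/-!
# The filtration of a complex of morphisms by the degree in the source
-/

set_option autoImplicit false
set_option backward.isDefEq.respectTransparency false
set_option backward.isDefEq.respectTransparency.types false

universe v u

open CategoryTheory CategoryTheory.Limits CategoryTheory.Abelian ComposableArrows
open CochainComplex CochainComplex.HomComplex

noncomputable section

namespace Groth.Agent.DescSS.HomFil

variable {A : Type u} [Category.{v} A] [Abelian A] (P I : CochainComplex A ℤ)

/-- The cochains supported in source degrees at most `i`. -/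
def fil (i : EInt) (n : ℤ) : AddSubgroup (Cochain P I n) where
  carrier := {z | ∀ (k q : ℤ) (h : k + n = q), i < (k : EInt) → z.v k q h = 0}
  zero_mem' _ _ _ _ := Cochain.zero_v _ _ _
  add_mem' := fun {x y} hx hy k q h hk => by rw [Cochain.add_v, hx k q h hk, hy k q h hk, add_zero]
  neg_mem' := fun {x} hx k q h hk => by rw [Cochain.neg_v, hx k q h hk, neg_zero]

lemma mem_fil {i : EInt} {n : ℤ} (z : Cochain P I n) :
    z ∈ fil P I i n ↔ ∀ (k q : ℤ) (h : k + n = q), i < (k : EInt) → z.v k q h = 0 :=
  Iff.rfl

lemma fil_mono {i j : EInt} (h : i ≤ j) (n : ℤ) : fil P I i n ≤ fil P I j n :=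
  fun _ hz k q hkq hk => hz k q hkq (lt_of_le_of_lt h hk)

lemma δ_mem {i : EInt} {n : ℤ} {z : Cochain P I n} (hz : z ∈ fil P I i n) (m : ℤ) :
    δ n m z ∈ fil P I i m := by
  intro k q h hk
  by_cases hnm : n + 1 = m
  · rw [δ_v n m hnm z k q h (q - 1) (k + 1) rfl rfl, hz k (q - 1) (by lia) hk,
      hz (k + 1) q (by lia) (lt_trans hk (by simp)), zero_comp, comp_zero, smul_zero, add_zero]
  · rw [δ_shape n m hnm, Cochain.zero_v]

/-- The differential on a step of the filtration. -/
def dFil (i : EInt) (n m : ℤ) : fil P I i n →+ fil P I i m where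
  toFun z := ⟨δ n m z.1, δ_mem P I z.2 m⟩
  map_zero' := Subtype.ext (δ_zero n m)
  map_add' x y := Subtype.ext (δ_add n m x.1 y.1)

/-- A step of the filtration as a complex. -/
def filCx (i : EInt) : CochainComplex AddCommGrpCat.{v} ℤ where
  X n := AddCommGrpCat.of (fil P I i n)
  d n m := AddCommGrpCat.ofHom (dFil P I i n m)
  shape n m h := by
    refine AddCommGrpCat.hom_ext (AddMonoidHom.ext fun z => ?_)
    exact Subtype.ext (p := (· ∈ fil P I i m)) (a1 := dFil P I i n m z) (a2 := 0) (δ_shape n m h z.1)
  d_comp_d' n m k _ _ := by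
    refine AddCommGrpCat.hom_ext (AddMonoidHom.ext fun z => ?_)
    exact Subtype.ext (p := (· ∈ fil P I i k)) (a1 := dFil P I i m k (dFil P I i n m z)) (a2 := 0) (δ_δ n m k z.1)

/-- The inclusions of the steps. -/
def filMap {i j : EInt} (h : i ≤ j) : filCx P I i ⟶ filCx P I j where
  f n := AddCommGrpCat.ofHom (AddSubgroup.inclusion (fil_mono P I h n))
  comm' n m _ := by ext z; rfl

/-- The filtration as a functor. -/
def filFunctor : EInt ⥤ CochainComplex AddCommGrpCat.{v} ℤ where
  obj i := filCx P I i
  map f := filMap P I (leOfHom f)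
  map_id i := by ext n z; rfl
  map_comp f g := by ext n z; rfl

/-- The spectral object of the filtration. -/
abbrev spObj : SpectralObject AddCommGrpCat.{v} EInt :=
  SpObjSS.mapHomological ((HomotopyCategory.spectralObjectMappingCone AddCommGrpCat.{v}).precomp (filFunctor P I))
    (HomotopyCategory.homologyFunctor AddCommGrpCat.{v} (ComplexShape.up ℤ) 0)

/-- The terms of the spectral object. -/
def HIso (n : ℤ) {i j : EInt} (h : i ≤ j) :
    ((spObj P I).H n).obj (mk₁ (homOfLE h)) ≅ (mappingCone (filMap P I h)).homology n :=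
  (HomotopyCategory.homologyFunctorFactors AddCommGrpCat.{v} (ComplexShape.up ℤ) n).app _

/-- The piece of the filtration. -/
def pieceMap (j : ℤ) {i : EInt} (hi : i ≤ (j : EInt)) :
    filCx P I i ⟶ HomComplex ((singleFunctor A j).obj (P.X j)) I where
  f n := AddCommGrpCat.ofHom
    ((Cochain.fromSingleEquiv (X := P.X j) (K := I) (p := j) (q := j + n) (n := n) rfl).symm.toAddMonoidHom.comp
      { toFun := fun z : fil P I i n => z.1.v j (j + n) rfl
        map_zero' := rfl
        map_add' := fun _ _ => rfl })
  comm' n m hnm := by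
    obtain rfl : n + 1 = m := hnm
    ext z
    show δ n (n + 1) (Cochain.fromSingleMk (z.1.v j (j + n) rfl) rfl) =
      Cochain.fromSingleMk ((δ n (n + 1) z.1).v j (j + (n + 1)) rfl) rfl
    rw [Cochain.δ_fromSingleMk _ _ (n + 1) (j + (n + 1)) rfl,
      δ_v n (n + 1) rfl z.1 j (j + (n + 1)) rfl (j + n) (j + 1) (by lia) rfl,
      z.2 (j + 1) (j + (n + 1)) (by lia) (lt_of_le_of_lt hi (by simp)), comp_zero, smul_zero, add_zero]

lemma filMap_pieceMap (j : ℤ) {i : EInt} (hi : i < (j : EInt)) :
    filMap P I hi.le ≫ pieceMap P I j le_rfl = 0 := by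
  ext n z
  show Cochain.fromSingleMk (z.1.v j (j + n) rfl) rfl = 0
  rw [z.2 j (j + n) rfl hi]
  exact Cochain.fromSingleMk_zero _ _ _ _ _ _

/-- Two consecutive steps and their quotient. -/
abbrev pieceSeq (j : ℤ) : ShortComplex (CochainComplex AddCommGrpCat.{v} ℤ) :=
  ShortComplex.mk (filMap P I (show ((j - 1 : ℤ) : EInt) ≤ (j : EInt) by simp)) (pieceMap P I j le_rfl)
    (filMap_pieceMap P I j (by simp))

lemma pieceSeq_shortExact (j : ℤ) : (pieceSeq P I j).ShortExact := by
  refine HomologicalComplex.shortExact_of_degreewise_shortExact _ fun n => ?_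
  have hinj : Function.Injective ((filMap P I (show ((j - 1 : ℤ) : EInt) ≤ (j : EInt) by simp)).f n) :=
    fun x y hxy => Subtype.ext (congrArg (fun q : (fil P I (j : EInt) n) => q.1) hxy)
  have hsurj : Function.Surjective ((pieceMap P I j le_rfl).f n) := by
    intro w
    refine ⟨⟨Cochain.single ((Cochain.fromSingleEquiv (p := j) (q := j + n) rfl) w) n, fun k q h hk => ?_⟩, ?_⟩
    · exact Cochain.single_v_eq_zero _ _ _ _ _ (by rintro rfl; exact lt_irrefl _ hk)
    · show Cochain.fromSingleMk ((Cochain.single _ n).v j (j + n) rfl) rfl = w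
      rw [Cochain.single_v]
      exact AddEquiv.symm_apply_apply (Cochain.fromSingleEquiv (X := P.X j) (K := I) (p := j) (q := j + n) (n := n) rfl) w
  exact
    { exact := by
        rw [ShortComplex.ab_exact_iff]
        intro z hz
        refine ⟨⟨z.1, fun k q h hk => ?_⟩, rfl⟩
        by_cases hkj : k = j
        · subst hkj
          obtain rfl : q = k + n := h.symm
          exact (Cochain.fromSingleEquiv (X := P.X k) (K := I) (p := k) (q := k + n) (n := n) rfl).symm.injective
            (hz.trans (map_zero _).symm)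
        · exact z.2 k q h (by simp at hk ⊢; lia)
      mono_f := (AddCommGrpCat.mono_iff_injective _).2 hinj
      epi_g := (AddCommGrpCat.epi_iff_surjective _).2 hsurj }

/-- The first page of the spectral object. -/
def pieceIso (n j : ℤ) (h : ((j - 1 : ℤ) : EInt) ≤ (j : EInt)) :
    ((spObj P I).H n).obj (mk₁ (homOfLE h)) ≅
      (HomComplex ((singleFunctor A j).obj (P.X j)) I).homology n :=
  haveI : QuasiIso (mappingCone.descShortComplex (pieceSeq P I j)) :=
    mappingCone.quasiIso_descShortComplex (pieceSeq_shortExact P I j)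
  HIso P I n h ≪≫ isoOfQuasiIsoAt (mappingCone.descShortComplex (pieceSeq P I j)) n

/-- The whole filtration. -/
def topMap : filCx P I ⊤ ≅ HomComplex P I :=
  HomologicalComplex.Hom.isoOfComponents
    (fun n => (AddEquiv.toAddCommGrpIso (X := AddCommGrpCat.of (fil P I ⊤ n)) (Y := AddCommGrpCat.of (Cochain P I n))
      { toFun := fun z : fil P I ⊤ n => z.1
        invFun := fun z => ⟨z, fun k q h hk => absurd hk (by simp)⟩
        left_inv := fun z => Subtype.ext rfl
        right_inv := fun z => rfl
        map_add' := fun _ _ => rfl } : AddCommGrpCat.of (fil P I ⊤ n) ≅ AddCommGrpCat.of (Cochain P I n)))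
    (fun n m _ => by ext z; rfl)

lemma isZero_bot (n : ℤ) : IsZero ((filCx P I ⊥).X n) := by
  haveI : Subsingleton (fil P I ⊥ n) := ⟨fun x y => Subtype.ext (by
    ext k q h
    rw [x.2 k q h (bot_lt_iff_ne_bot.2 (by simp)), y.2 k q h (bot_lt_iff_ne_bot.2 (by simp))])⟩
  exact @AddCommGrpCat.isZero_of_subsingleton _ (inferInstanceAs (Subsingleton (fil P I ⊥ n)))

/-- The abutment of the spectral object. -/
def totalIso (n : ℤ) :
    ((spObj P I).H n).obj (mk₁ (homOfLE (bot_le : (⊥ : EInt) ≤ ⊤))) ≅ (HomComplex P I).homology n :=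
  let S : ShortComplex (CochainComplex AddCommGrpCat.{v} ℤ) :=
    ShortComplex.mk (filMap P I (bot_le : (⊥ : EInt) ≤ ⊤)) (topMap P I).hom
      (by ext m : 1; exact (isZero_bot P I m).eq_of_src _ _)
  have hS : S.ShortExact := HomologicalComplex.shortExact_of_degreewise_shortExact _ fun m =>
    { exact := by
        haveI : IsIso ((topMap P I).hom.f m) := inferInstance
        rw [ShortComplex.exact_iff_mono _ ((isZero_bot P I m).eq_of_src _ _)]
        exact inferInstanceAs (Mono ((topMap P I).hom.f m))
      mono_f := ⟨fun _ _ _ => (isZero_bot P I m).eq_of_tgt _ _⟩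
      epi_g := inferInstanceAs (Epi ((topMap P I).hom.f m)) }
  haveI : QuasiIso (mappingCone.descShortComplex S) := mappingCone.quasiIso_descShortComplex hS
  HIso P I n bot_le ≪≫ isoOfQuasiIsoAt (mappingCone.descShortComplex S) n

variable [CochainComplex.IsStrictlyLE P 0] [CochainComplex.IsStrictlyGE I 0]

lemma isZero_step {i j : EInt} (hij : i ≤ j) (hj : i = j ∨ ∀ n, fil P I j n ≤ fil P I i n) (n : ℤ) :
    IsZero ((mappingCone (filMap P I hij)).homology n) := by
  haveI : IsIso (filMap P I hij) := by
    rcases hj with rfl | hj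
    · exact (show filMap P I hij = 𝟙 _ by ext m z; rfl) ▸ inferInstance
    · exact ⟨{ f := fun m => AddCommGrpCat.ofHom (AddSubgroup.inclusion (hj m)), comm' := fun _ _ _ => by ext z; rfl },
        by ext m z; rfl, by ext m z; rfl⟩
  haveI : IsIso ((HomotopyCategory.quotient _ (ComplexShape.up ℤ)).map (filMap P I hij)) := inferInstance
  have hz : IsZero ((HomotopyCategory.quotient _ (ComplexShape.up ℤ)).obj (mappingCone (filMap P I hij))) :=
    (Pretriangulated.Triangle.isZero₃_iff_isIso₁ _
      (HomotopyCategory.mappingCone_triangleh_distinguished (filMap P I hij))).2 this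
  exact IsZero.of_iso ((HomotopyCategory.homologyFunctor _ (ComplexShape.up ℤ) n).map_isZero hz)
    ((HomotopyCategory.homologyFunctorFactors AddCommGrpCat.{v} (ComplexShape.up ℤ) n).app _).symm

lemma fil_eq_top (i : EInt) (hi : ((0 : ℤ) : EInt) ≤ i) (j : EInt) (n : ℤ) : fil P I j n ≤ fil P I i n := by
  intro z _ k q h hk
  exact (CochainComplex.isZero_of_isStrictlyLE P 0 k (by simpa using lt_of_le_of_lt hi hk)).eq_of_src _ _

lemma isZero_filCx_X (i : EInt) (n : ℤ) (hi : i ≤ ((-n - 1 : ℤ) : EInt)) : IsZero ((filCx P I i).X n) := by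
  haveI : Subsingleton (fil P I i n) := ⟨fun x y => Subtype.ext (by
    ext k q h
    by_cases hk : i < (k : EInt)
    · rw [x.2 k q h hk, y.2 k q h hk]
    · have : (k : EInt) ≤ ((-n - 1 : ℤ) : EInt) := (not_lt.1 hk).trans hi
      simp at this
      exact (CochainComplex.isZero_of_isStrictlyGE I 0 q (by lia)).eq_of_tgt _ _)⟩
  exact @AddCommGrpCat.isZero_of_subsingleton _ (inferInstanceAs (Subsingleton (fil P I i n)))

instance isFirstQuadrantFil : IsFirstQuadrantFil (spObj P I) where
  isZero_high i j hij hi n :=
    IsZero.of_iso (isZero_step P I hij (Or.inr (fil_eq_top P I i hi j)) n) (HIso P I n hij)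
  isZero_low i j hij n hj := by
    rcases hij.eq_or_lt with rfl | hlt
    · exact IsZero.of_iso (isZero_step P I hij (Or.inl rfl) n) (HIso P I n hij)
    · refine IsZero.of_iso ?_ (HIso P I n hij)
      have hi : i ≤ ((-(n + 1) - 1 : ℤ) : EInt) := by
        induction i using WithBotTop.rec with
        | bot => exact bot_le
        | coe a =>
          have := lt_of_lt_of_le hlt hj
          simp at this ⊢
          lia
        | top => exact absurd (lt_of_lt_of_le hlt le_top) (lt_irrefl _)
      have hX : IsZero ((mappingCone (filMap P I hij)).X n) := by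
        rw [IsZero.iff_id_eq_zero]
        refine mappingCone.ext_to _ n (n + 1) rfl ?_ ?_
        · exact (isZero_filCx_X P I i (n + 1) hi).eq_of_tgt _ _
        · exact (isZero_filCx_X P I j n hj).eq_of_tgt _ _
      exact ShortComplex.HasLeftHomology.rec (fun _ => ShortComplex.isZero_homology_of_isZero_X₂ _ hX)
        (inferInstance : ((mappingCone (filMap P I hij)).sc n).HasLeftHomology)

end Groth.Agent.DescSS.HomFil
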