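import Groth.Agent.DescSS.ExtSS
import Groth.Agent.DescSS.FamRes
import Groth.Agent.DescSS.FamLevel
import Groth.Agent.FibBi.DescentPt
import Groth.Agent.EtMVLib.ExtTools
import Mathlib.CategoryTheory.Sites.CoverLifting

/-!
# The spectral sequence of an augmented simplicial space of cohomological descent
-/

set_option autoImplicit false
set_option backward.isDefEq.respectTransparency false
set_option backward.isDefEq.respectTransparency.types false
set_option linter.style.haveILetI false

universe u

open CategoryTheory CategoryTheory.Limits CategoryTheory.Abelian Opposite TopologicalSpace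
open Pseudofunctor.CoGrothendieck
open Groth.Agent.FibSiteLib Groth.Agent.FibSiteLib.TopFam Groth.Agent.FibBi

noncomputable section

namespace Groth.Agent.DescSS.TopDescent

variable (W : (WithInitial SimplexCategory)ᵒᵖ ⥤ TopCat.{u})

/-- The space of the augmentation. -/
abbrev base : TopCat.{u} := W.obj (FibDesc.bot SimplexCategory)

/-- The simplicial space. -/
abbrev N : SimplexCategoryᵒᵖ ⥤ TopCat.{u} := FibDesc.toAug SimplexCategory ⋙ W

/-- The index of a term. -/
abbrev lev (p : ℕ) : SimplexCategoryᵒᵖ := op (SimplexCategory.mk p)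

/-- The map of a term to the base. -/
abbrev augMap (p : ℕ) : (N W).obj (lev p) ⟶ base W :=
  W.map (TopLocal.toBot ((FibDesc.toAug SimplexCategory).obj (lev p)))

/-- The inverse image of the augmentation. -/
abbrev θ : CohTop.Ab (base W) ⥤ Sheaf (FamLevel.J (N W)) AddCommGrpCat.{u} := TopLocal.θ W

/-- The whole base is final in the augmented total category. -/
def isTerminalBot : IsTerminal (FamLevel.topOb W (FibDesc.bot SimplexCategory)) :=
  IsTerminal.ofUniqueHom
    (fun X => TopFam.mk W (X := X) (W := FamLevel.topOb W (FibDesc.bot SimplexCategory)) (TopLocal.toBot X.base)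
      (fun _ _ => trivial))
    (fun _ _ => TopFam.hom_ext W _ _ (Quiver.Hom.unop_inj (WithInitial.starInitial.hom_ext _ _)))

/-- Extension from the base preserves constant sheaves. -/
def epsConst : constantSheaf (TopLocal.TB W) AddCommGrpCat.{u} ⋙
      (FibDesc.eps (FibDesc.topAug W)).sheafPullback AddCommGrpCat.{u} (TopLocal.TB W) (TopLocal.TF W) ≅
    constantSheaf (TopLocal.TF W) AddCommGrpCat.{u} :=
  Adjunction.leftAdjointUniq
    ((constantSheafAdj (TopLocal.TB W) AddCommGrpCat.{u} (Limits.isTerminalTop (α := Opens (base W)))).comp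
      ((FibDesc.eps (FibDesc.topAug W)).sheafAdjunctionContinuous AddCommGrpCat.{u} (TopLocal.TB W) (TopLocal.TF W)))
    ((constantSheafAdj (TopLocal.TF W) AddCommGrpCat.{u} (isTerminalBot W)).ofNatIsoRight
      (NatIso.ofComponents (fun G => Iso.refl _) (fun f => (Category.comp_id _).trans (Category.id_comp _).symm)))

/-- The inverse image of a constant sheaf is constant. -/
def θConst : constantSheaf (TopLocal.TB W) AddCommGrpCat.{u} ⋙ θ W ≅
    constantSheaf (TopLocal.TP W) AddCommGrpCat.{u} :=
  (Functor.associator _ _ _).symm ≪≫ Functor.isoWhiskerRight (epsConst W) _ ≪≫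
    Functor.associator _ _ _ ≪≫
    Functor.isoWhiskerLeft (Functor.const _)
      ((FibDesc.incl (FibDesc.topAug W)).pushforwardContinuousSheafificationCompatibility AddCommGrpCat.{u}
        (TopLocal.TP W) (TopLocal.TF W)).symm ≪≫
    (Functor.associator _ _ _).symm ≪≫
    Functor.isoWhiskerRight (NatIso.ofComponents (fun A => Iso.refl _) (fun f => by ext; simp)) _

variable (p : ℕ)

/-- The square of a term over the base. -/
abbrev wLev : Opens.map (augMap W p) ⋙ ι (topFam W) ((FibDesc.toAug SimplexCategory).obj (lev p)) ⟶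
    𝟭 (Opens (base W)) ⋙ ι (topFam W) (FibDesc.bot SimplexCategory) where
  app U := TopFam.mk W
    (X := (ι (topFam W) ((FibDesc.toAug SimplexCategory).obj (lev p))).obj ((Opens.map (augMap W p)).obj U))
    (W := (ι (topFam W) (FibDesc.bot SimplexCategory)).obj U)
    (TopLocal.toBot ((FibDesc.toAug SimplexCategory).obj (lev p))) le_rfl
  naturality U V f := TopFam.hom_ext W _ _ (Quiver.Hom.unop_inj (WithInitial.starInitial.hom_ext _ _))

instance guitartExact_wLev :
    (TwoSquare.mk (Opens.map (augMap W p)) (𝟭 (Opens (base W)))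
      (ι (topFam W) ((FibDesc.toAug SimplexCategory).obj (lev p))) (ι (topFam W) (FibDesc.bot SimplexCategory))
      (wLev W p)).GuitartExact := by
  rw [TwoSquare.guitartExact_iff_isConnected_rightwards]
  intro V U g
  let sq := TwoSquare.mk (Opens.map (augMap W p)) (𝟭 (Opens (base W)))
      (ι (topFam W) ((FibDesc.toAug SimplexCategory).obj (lev p))) (ι (topFam W) (FibDesc.bot SimplexCategory))
      (wLev W p)
  have hbase : ∀ {x : (WithInitial SimplexCategory)ᵒᵖ} (a b : x ⟶ FibDesc.bot SimplexCategory), a = b :=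
    fun a b => Quiver.Hom.unop_inj (WithInitial.starInitial.hom_ext _ _)
  have hV : (V : Set ((N W).obj (lev p))) ⊆ ((Opens.map (augMap W p)).obj U : Set ((N W).obj (lev p))) := fun x hx => by
    have := le_of_hom W g hx
    rw [hbase g.base (TopLocal.toBot _)] at this
    exact this
  let j₀ : sq.StructuredArrowRightwards g := TwoSquare.StructuredArrowRightwards.mk sq g U (homOfLE hV) (𝟙 U)
    (TopFam.hom_ext W _ _ (hbase _ _))
  haveI : Nonempty (sq.StructuredArrowRightwards g) := ⟨j₀⟩
  refine zigzag_isConnected fun j₁ j₂ => ?_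
  have key : ∀ j, Zigzag j j₀ := fun j => by
    obtain ⟨U', a, b, hab, rfl⟩ := TwoSquare.StructuredArrowRightwards.mk_surjective j
    exact Zigzag.of_hom (StructuredArrow.homMk (CostructuredArrow.homMk b (Category.comp_id _))
      (CostructuredArrow.hom_ext _ _ (Subsingleton.elim (α := V ⟶ (Opens.map (augMap W p)).obj U) _ _)))
  exact (key j₁).trans (key j₂).symm

/-- The factorisation of a level through the family. -/
def levIncl : ι (topFam (N W)) (lev p) ⋙ FibDesc.incl (FibDesc.topAug W) ≅
    ι (topFam W) ((FibDesc.toAug SimplexCategory).obj (lev p)) :=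
  NatIso.ofComponents (fun U => Iso.refl _) (fun f => TopFam.hom_ext W _ _ (by
    show (FibDesc.toAug SimplexCategory).map (𝟙 (lev p)) ≫ 𝟙 _ = 𝟙 _ ≫ 𝟙 _
    rw [CategoryTheory.Functor.map_id]))

instance : (FibDesc.incl (FibDesc.topAug W)).IsContinuous (FamLevel.J (N W)) (TopLocal.TF W) :=
  TopSplit.isContinuous_baseChange W (FibDesc.toAug SimplexCategory)

instance : (𝟭 (Opens (base W))).IsContinuous (TopLocal.TB W) (TopLocal.TB W) := Functor.isContinuous_id _

instance : (𝟭 (Opens (base W))).IsCocontinuous (TopLocal.TB W) (TopLocal.TB W) := CategoryTheory.isCocontinuous_id _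

/-- A level of the inverse image is an inverse image. -/
def levelIso : θ W ⋙ FamLevel.r (N W) (lev p) ≅ CohTop.pull (augMap W p) :=
  haveI : (FibDesc.incl (FibDesc.topAug W)).IsContinuous (FamLevel.J (N W)) (TopLocal.TF W) :=
    TopSplit.isContinuous_baseChange W (FibDesc.toAug SimplexCategory)
  haveI : (𝟭 (Opens (base W))).IsContinuous (TopLocal.TB W) (TopLocal.TB W) := Functor.isContinuous_id _
  haveI : (𝟭 (Opens (base W))).IsCocontinuous (TopLocal.TB W) (TopLocal.TB W) := CategoryTheory.isCocontinuous_id _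
  haveI : (ι (topFam W) ((FibDesc.toAug SimplexCategory).obj (lev p))).IsContinuous (top (N W) (lev p)) (TopLocal.TF W) :=
    isContinuous_ι (TopFam.isPreFibSite W) _
  haveI : (ι (topFam W) ((FibDesc.toAug SimplexCategory).obj (lev p))).IsCocontinuous (top (N W) (lev p)) (TopLocal.TF W) :=
    isCocontinuous_ι (TopFam.isPreFibSite W) _
  haveI : (ι (topFam W) (FibDesc.bot SimplexCategory)).IsContinuous (TopLocal.TB W) (TopLocal.TF W) :=
    isContinuous_ι (TopFam.isPreFibSite W) _
  haveI : (Opens.map (augMap W p)).IsContinuous (TopLocal.TB W) (top (N W) (lev p)) :=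
    inferInstanceAs ((Opens.map (augMap W p)).IsContinuous (Opens.grothendieckTopology _) (Opens.grothendieckTopology _))
  haveI := Functor.isContinuous_comp (ι (topFam (N W)) (lev p)) (FibDesc.incl (FibDesc.topAug W))
    (top (N W) (lev p)) (FamLevel.J (N W)) (TopLocal.TF W)
  haveI := guitartExact_wLev W p
  haveI := @SquareMate.isIso_c (Opens (base W)) (Opens (base W)) (Opens ((N W).obj (lev p))) (∫ᶜ (topFam W)) _ _ _ _
    (TopLocal.TB W) (TopLocal.TB W) (top (N W) (lev p)) (TopLocal.TF W) (𝟭 (Opens (base W))) (Opens.map (augMap W p))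
    (ι (topFam W) (FibDesc.bot SimplexCategory)) (ι (topFam W) ((FibDesc.toAug SimplexCategory).obj (lev p))) (wLev W p)
    _ _ _ _ _ _ (guitartExact_wLev W p)
  Functor.associator _ _ _ ≪≫
    Functor.isoWhiskerLeft _ (Functor.sheafPushforwardContinuousComp' (levIncl W p) AddCommGrpCat.{u}
      (top (N W) (lev p)) (FamLevel.J (N W)) (TopLocal.TF W)) ≪≫
    (asIso (SquareMate.c (J₁ := TopLocal.TB W) (J₂ := TopLocal.TB W) (J₃ := top (N W) (lev p)) (J₄ := TopLocal.TF W)
      (𝟭 (Opens (base W))) (Opens.map (augMap W p)) (ι (topFam W) (FibDesc.bot SimplexCategory))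
      (ι (topFam W) ((FibDesc.toAug SimplexCategory).obj (lev p))) (wLev W p))).symm ≪≫
    Functor.isoWhiskerRight (Functor.sheafPushforwardContinuousId (J := TopLocal.TB W) (A := AddCommGrpCat.{u})) _ ≪≫
    Functor.leftUnitor _

/-- Isomorphic arguments have isomorphic `Ext` groups. -/
def extCongr {A : Type (u + 1)} [Category.{u} A] [Abelian A] [HasExt.{u} A] {X X' M M' : A} (e : X ≅ X') (e' : M ≅ M')
    (n : ℕ) : Ext.{u} X M n ≃+ Ext.{u} X' M' n :=
  (((extFunctor n).mapIso e.op.symm).app M ≪≫ ((extFunctor n).obj (op X')).mapIso e').addCommGroupIsoToAddEquiv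

attribute [local instance] HasDerivedCategory.standard

/-- The inverse image is bijective on the `Ext` groups. -/
theorem bijective_map_ext (h : FibDesc.IsCohDescentTop W) (F G : CohTop.Ab (base W)) (n : ℕ)
    [PreservesFiniteLimits (θ W)] [PreservesFiniteColimits (θ W)] [(θ W).Additive] :
    Function.Bijective (fun e : Ext.{u} F G n => e.mapExactFunctor (θ W)) := by
  obtain ⟨_, _, _, _, _, _, h⟩ := h
  let K : DerivedCategory.Plus (CohTop.Ab (base W)) :=
    ⟨(DerivedCategory.singleFunctor _ 0).obj F, ⟨0, inferInstance⟩⟩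
  let M : DerivedCategory.Plus (CohTop.Ab (base W)) :=
    ⟨((DerivedCategory.singleFunctor _ 0).obj G)⟦(n : ℤ)⟧, ⟨-(n : ℤ),
      DerivedCategory.TStructure.t.isGE_shift _ 0 (n : ℤ) (-(n : ℤ)) (by simp)⟩⟩
  have hb := h K M
  have key : (fun e : Ext.{u} F G n => e.mapExactFunctor (θ W)) =
      Ext.homEquiv.symm ∘ (Iso.homCongr ((θ W).mapDerivedCategorySingleFunctor 0 |>.app F)
        (((θ W).mapDerivedCategory.commShiftIso (n : ℤ)).app _ ≪≫
          (shiftFunctor _ (n : ℤ)).mapIso (((θ W).mapDerivedCategorySingleFunctor 0).app G))) ∘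
      (fun g => (θ W).mapDerivedCategory.map g) ∘ Ext.homEquiv := by
    funext e
    refine Ext.ext ?_
    show _ = (Ext.homEquiv (Ext.homEquiv.symm _))
    rw [Equiv.apply_symm_apply, Ext.mapExactFunctor_hom]
    simp [Iso.homCongr, ShiftedHom.map, Ext.homEquiv]
    rfl
  rw [key]
  exact (Equiv.bijective _).comp ((Equiv.bijective _).comp (hb.comp (Equiv.bijective _)))

/-- The augmented simplicial space of cohomological descent gives a spectral sequence. -/
theorem exists_spectralSequence (h : FibDesc.IsCohDescentTop W) (F : CohTop.Ab (base W)) :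
    ∃ (E : CohomologicalSpectralSequence AddCommGrpCat.{u} 1)
      (a : SpSeq.Abutment E (fun n : ℤ =>
        if 0 ≤ n then AddCommGrpCat.of (CohTop.H F n.toNat) else AddCommGrpCat.of PUnit.{u + 1})),
      (∀ n, a.IsFinite n) ∧ SpSeq.IsBounded E ∧
      ∀ p q : ℤ, Nonempty ((E.page 1 le_rfl).X (p, q) ≅
        (if 0 ≤ p ∧ 0 ≤ q then
          AddCommGrpCat.of (CohTop.H ((CohTop.pull (augMap W p.toNat)).obj F) q.toNat)
         else AddCommGrpCat.of PUnit.{u + 1})) := by
  haveI := TopLocal.lex_θ W
  haveI : PreservesFiniteColimits (θ W) :=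
    SplitDescent.rex_of_adj (FibDesc.adj (FibDesc.topAug W) (FibDesc.topAugTop W) AddCommGrpCat.{u})
  haveI : (θ W).Additive := (FibDesc.adj (FibDesc.topAug W) (FibDesc.topAugTop W) AddCommGrpCat.{u}).left_adjoint_additive
  let Z₀ := (constantSheaf (TopLocal.TB W) AddCommGrpCat.{u}).obj (AddCommGrpCat.of (ULift.{u} ℤ))
  let eZ : (θ W).obj Z₀ ≅ FamRes.Zc (N W) :=
    (θConst W).app _ ≪≫ (constantSheaf (FamLevel.J (N W)) AddCommGrpCat.{u}).mapIso
      (AddEquiv.toAddCommGrpIso (X := AddCommGrpCat.of (ULift.{u} ℤ)) (Y := AddCommGrpCat.free.{u}.obj PUnit.{u + 1})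
        (AddEquiv.ulift.trans (FreeAbelianGroup.uniqueEquiv PUnit.{u + 1}).symm))
  refine ExtSS.exists_spectralSequence (FamRes.P (N W)) ((θ W).obj F) (FamRes.π (N W)) _ (fun n => ?_) (fun n hn => ?_)
    _ (fun p q => ?_) (fun p q hpq => ?_)
  · refine ⟨(((extCongr eZ.symm (Iso.refl _) n).trans
      (AddEquiv.ofBijective ((θ W).mapExtAddHom Z₀ F n) (bijective_map_ext W h Z₀ F n)).symm)).trans ?_⟩
    rw [if_pos (Int.natCast_nonneg n), Int.toNat_natCast]
  · rw [if_neg (by lia)]
    exact AddCommGrpCat.isZero_of_subsingleton _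
  · haveI : (FamLevel.r (N W) (lev p)).Additive := {}
    haveI : PreservesFiniteLimits (FamLevel.r (N W) (lev p)) := SplitDescent.lex_of_adj (FamLevel.adj (N W) (lev p))
    haveI : PreservesFiniteColimits (FamLevel.r (N W) (lev p)) :=
      SplitDescent.rex_of_adj ((ι (topFam (N W)) (lev p)).sheafAdjunctionCocontinuous AddCommGrpCat.{u} (top (N W) (lev p)) (FamLevel.J (N W)))
    refine ⟨((extCongr (FamRes.XIso (N W) p ≪≫ FamLevel.freeIso (N W) (lev p)) (Iso.refl _) q).trans
      ((AddEquiv.ofBijective (EtMVLib.adjExtMap (FamLevel.adj (N W) (lev p)) _ _ q) ?_).trans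
        (extCongr (Iso.refl _) ((levelIso W p).app F) q))).trans ?_⟩
    · haveI := FamLevel.lex_L (N W) (lev p)
      exact EtMVLib.adjExtMap_bijective _ _ _ _
    · rw [if_pos ⟨Int.natCast_nonneg p, Int.natCast_nonneg q⟩, Int.toNat_natCast, Int.toNat_natCast]
  · rw [if_neg (by lia)]
    exact AddCommGrpCat.isZero_of_subsingleton _

end Groth.Agent.DescSS.TopDescent
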